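import Groth.Agent.Lib.RelPC.Basic

/-!
# Restriction of scalars: modules, cohomology and finiteness
-/

set_option autoImplicit false
universe u

open CategoryTheory CategoryTheory.Limits

attribute [local instance] HasDerivedCategory.standard

namespace GrothLib.RelPC

variable {P A : Type u} [CommRing P] [CommRing A] (φ : P →+* A)

/-- Restriction of a module in degree zero. -/
noncomputable def restrictInDIso (M : Type u) [AddCommGroup M] [Module A M] :
    (DRing.restrictD φ).obj (Dual.inD A M) ≅
      Dual.inD P ((ModuleCat.restrictScalars.{u} φ).obj (ModuleCat.of A M)) :=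
  ((ModuleCat.restrictScalars.{u} φ).mapDerivedCategorySingleFunctor 0).app (ModuleCat.of A M)

theorem pcModule_restrict_iff (M : Type u) [AddCommGroup M] [Module A M] (m : ℤ) :
    DRing.IsPseudoCoherent P m ((DRing.restrictD φ).obj (Dual.inD A M)) ↔
      DRing.IsPseudoCoherentModule P m ((ModuleCat.restrictScalars.{u} φ).obj (ModuleCat.of A M)) :=
  pc_congr (restrictInDIso φ M) m

/-- Cohomology commutes with restriction of scalars. -/
theorem nonempty_HD_restrict (K : Dual.D A) (i : ℤ) :
    Nonempty (Dual.HD P ((DRing.restrictD φ).obj K) i ≃ₗ[P]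
      (ModuleCat.restrictScalars.{u} φ).obj
        ((DerivedCategory.homologyFunctor (ModuleCat.{u} A) i).obj K)) := by
  obtain ⟨e⟩ := DerTrunc.nonempty_homology_mapDerivedCategory (ModuleCat.restrictScalars.{u} φ) K i
  exact ⟨e.toLinearEquiv⟩

theorem subsingleton_HD_restrict_iff (K : Dual.D A) (i : ℤ) :
    Subsingleton (Dual.HD P ((DRing.restrictD φ).obj K) i) ↔ Subsingleton (Dual.HD A K i) :=
  (nonempty_HD_restrict φ K i).some.toEquiv.subsingleton_congr

theorem finite_restrict_iff (hφ : Function.Surjective φ) (M : ModuleCat.{u} A) :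
    Module.Finite P ((ModuleCat.restrictScalars.{u} φ).obj M) ↔ Module.Finite A M := by
  algebraize [φ]
  let : Module P M := Module.compHom M φ
  have : IsScalarTower P A M := IsScalarTower.of_algebraMap_smul fun r x => rfl
  have : Module.Finite P A := Module.Finite.of_surjective (Algebra.linearMap P A) hφ
  exact ⟨fun h => @Module.Finite.of_restrictScalars_finite P A M _ _ _ _ _ _ _ h,
    fun h => have := h; (Module.Finite.trans A M : Module.Finite P M)⟩

theorem finite_HD_restrict_iff (hφ : Function.Surjective φ) (K : Dual.D A) (i : ℤ) :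
    Module.Finite P (Dual.HD P ((DRing.restrictD φ).obj K) i) ↔ Module.Finite A (Dual.HD A K i) := by
  obtain ⟨e⟩ := nonempty_HD_restrict φ K i
  exact ⟨fun h => (finite_restrict_iff φ hφ _).1 (Module.Finite.equiv e),
    fun h => @Module.Finite.equiv _ _ _ _ _ _ _ _ ((finite_restrict_iff φ hφ _).2 h) e.symm⟩

end GrothLib.RelPC
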