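import Groth.Agent.Lib.RelPC.Flat
import Groth.Agent.Lib.DCxRing.TorIndepSquare
import Mathlib.RingTheory.IsTensorProduct
import Mathlib.RingTheory.TensorProduct.MvPolynomial

/-!
# Tor independent base change of the base ring
-/

set_option autoImplicit false
universe u

open CategoryTheory CategoryTheory.Limits HomologicalComplex
open scoped TensorProduct

attribute [local instance] HasDerivedCategory.standard

namespace GrothLib.RelPC

theorem canCx_natural {S S' C C' : Type u} [CommRing S] [CommRing S'] [CommRing C] [CommRing C']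
    {φ : S →+* C} {ρ : S →+* S'} {α : C →+* C'} {φ' : S' →+* C'} (h : α.comp φ = φ'.comp ρ)
    {P P' : DRing.Cx C} (q : P ⟶ P') :
    (DR.bc ρ).map ((DRing.restrictCx φ).map q) ≫ DR.canCx h P' =
      DR.canCx h P ≫ (DRing.restrictCx φ').map ((DR.bc α).map q) :=
  HomologicalComplex.hom_ext _ _ fun i => by
    let adj := ModuleCat.extendRestrictScalarsAdj.{u, u, u} ρ
    have key : (ModuleCat.restrictScalars.{u} φ).map (q.f i) ≫ (DR.toResBC h P').f i =
        (DR.toResBC h P).f i ≫ (ModuleCat.restrictScalars.{u} ρ).map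
          ((ModuleCat.restrictScalars.{u} φ').map ((ModuleCat.extendScalars.{u, u, u} α).map (q.f i))) :=
      ModuleCat.hom_ext (DFunLike.ext _ _ fun _ => rfl)
    change (ModuleCat.extendScalars.{u, u, u} ρ).map ((ModuleCat.restrictScalars.{u} φ).map (q.f i)) ≫
        (adj.homEquiv _ _).symm ((DR.toResBC h P').f i) =
      (adj.homEquiv _ _).symm ((DR.toResBC h P).f i) ≫
        (ModuleCat.restrictScalars.{u} φ').map ((ModuleCat.extendScalars.{u, u, u} α).map (q.f i))
    exact ((adj.homEquiv_naturality_left_symm _ _).symm.trans (congrArg (adj.homEquiv _ _).symm key)).trans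
      (adj.homEquiv_naturality_right_symm _ _)

variable {R R' A : Type u} [CommRing R] [CommRing R'] [CommRing A] [Algebra R R'] [Algebra R A] {n : ℕ}

theorem map_comp_C : (MvPolynomial.map (σ := Fin n) (algebraMap R R')).comp MvPolynomial.C =
    (MvPolynomial.C : R' →+* MvPolynomial (Fin n) R').comp (algebraMap R R') :=
  RingHom.ext fun r => MvPolynomial.map_C _ _

theorem isPushoutHom_poly :
    DR.IsPushoutHom (MvPolynomial.C : R →+* MvPolynomial (Fin n) R) (algebraMap R R')
      (MvPolynomial.map (σ := Fin n) (algebraMap R R')) MvPolynomial.C map_comp_C := by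
  unfold DR.IsPushoutHom
  let := MvPolynomial.algebraMvPolynomial (σ := Fin n) (R := R) (S := R')
  have h1 : (MvPolynomial.C : R →+* MvPolynomial (Fin n) R).toAlgebra =
      (inferInstance : Algebra R (MvPolynomial (Fin n) R)) := Algebra.algebra_ext _ _ fun _ => rfl
  have h2 : (MvPolynomial.C : R' →+* MvPolynomial (Fin n) R').toAlgebra =
      (inferInstance : Algebra R' (MvPolynomial (Fin n) R')) := Algebra.algebra_ext _ _ fun _ => rfl
  have h3 : (MvPolynomial.map (σ := Fin n) (algebraMap R R')).toAlgebra =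
      (inferInstance : Algebra (MvPolynomial (Fin n) R) (MvPolynomial (Fin n) R')) :=
    Algebra.algebra_ext _ _ fun _ => rfl
  have h4 : ((MvPolynomial.map (σ := Fin n) (algebraMap R R')).comp MvPolynomial.C).toAlgebra =
      (inferInstance : Algebra R (MvPolynomial (Fin n) R')) := Algebra.algebra_ext _ _ fun r =>
    (MvPolynomial.map_C (algebraMap R R') r).trans
      (IsScalarTower.algebraMap_apply R R' (MvPolynomial (Fin n) R') r).symm
  have h5 : (algebraMap R R').toAlgebra = ‹Algebra R R'› := Algebra.algebra_ext _ _ fun _ => rfl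
  convert (inferInstance : Algebra.IsPushout R R' (MvPolynomial (Fin n) R) (MvPolynomial (Fin n) R')) using 1
  all_goals rfl

variable (α : MvPolynomial (Fin n) R →ₐ[R] A)

/-- The presentation after base change. -/
noncomputable def bcPres : MvPolynomial (Fin n) R' →ₐ[R'] R' ⊗[R] A :=
  MvPolynomial.aeval fun i => (1 : R') ⊗ₜ[R] α (MvPolynomial.X i)

theorem bcPres_comp : (Algebra.TensorProduct.includeRight : A →ₐ[R] R' ⊗[R] A).toRingHom.comp
      (α : MvPolynomial (Fin n) R →+* A) =
    (bcPres (R' := R') α : MvPolynomial (Fin n) R' →+* R' ⊗[R] A).comp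
      (MvPolynomial.map (algebraMap R R')) := by
  refine MvPolynomial.ringHom_ext (fun r => ?_) fun i => ?_
  · simp [bcPres, Algebra.TensorProduct.algebraMap_apply]
  · simp [bcPres]

theorem bcPres_surjective (hα : Function.Surjective α) : Function.Surjective (bcPres (R' := R') α) := by
  intro z
  induction z using TensorProduct.induction_on with
  | zero => exact ⟨0, map_zero _⟩
  | tmul r a =>
    obtain ⟨p, rfl⟩ := hα a
    refine ⟨MvPolynomial.C r * MvPolynomial.map (algebraMap R R') p, ?_⟩
    rw [map_mul]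
    have h := DFunLike.congr_fun (bcPres_comp (R' := R') α) p
    simp only [RingHom.coe_comp, Function.comp_apply] at h
    erw [← h]
    simp [bcPres, Algebra.TensorProduct.algebraMap_apply]
  | add x y hx hy =>
    obtain ⟨p, rfl⟩ := hx
    obtain ⟨q, rfl⟩ := hy
    exact ⟨p + q, map_add _ _ _⟩

theorem isPushoutHom_pres :
    DR.IsPushoutHom (α : MvPolynomial (Fin n) R →+* A) (MvPolynomial.map (σ := Fin n) (algebraMap R R'))
      (Algebra.TensorProduct.includeRight : A →ₐ[R] R' ⊗[R] A).toRingHom
      (bcPres (R' := R') α : MvPolynomial (Fin n) R' →+* R' ⊗[R] A) (bcPres_comp α) := by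
  unfold DR.IsPushoutHom
  let := MvPolynomial.algebraMvPolynomial (σ := Fin n) (R := R) (S := R')
  let : Algebra (MvPolynomial (Fin n) R) A := (α : MvPolynomial (Fin n) R →+* A).toAlgebra
  let : Algebra A (R' ⊗[R] A) := (Algebra.TensorProduct.includeRight : A →ₐ[R] R' ⊗[R] A).toRingHom.toAlgebra
  let : Algebra (MvPolynomial (Fin n) R') (R' ⊗[R] A) :=
    (bcPres (R' := R') α : MvPolynomial (Fin n) R' →+* R' ⊗[R] A).toAlgebra
  let : Algebra (MvPolynomial (Fin n) R) (R' ⊗[R] A) :=
    ((Algebra.TensorProduct.includeRight : A →ₐ[R] R' ⊗[R] A).toRingHom.comp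
      (α : MvPolynomial (Fin n) R →+* A)).toAlgebra
  have : IsScalarTower (MvPolynomial (Fin n) R) A (R' ⊗[R] A) := IsScalarTower.of_algebraMap_eq' rfl
  have hb : ∀ p : MvPolynomial (Fin n) R, algebraMap _ (MvPolynomial (Fin n) R') p =
      MvPolynomial.map (algebraMap R R') p := fun p => rfl
  have : IsScalarTower (MvPolynomial (Fin n) R) (MvPolynomial (Fin n) R') (R' ⊗[R] A) :=
    IsScalarTower.of_algebraMap_eq fun p => by
      rw [hb]; exact DFunLike.congr_fun (bcPres_comp (R' := R') α) p
  have : IsScalarTower R (MvPolynomial (Fin n) R) A :=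
    IsScalarTower.of_algebraMap_eq fun r => (α.commutes r).symm
  have : IsScalarTower R A (R' ⊗[R] A) :=
    IsScalarTower.of_algebraMap_eq fun r => (Algebra.TensorProduct.includeRight.commutes r).symm
  have : IsScalarTower R (MvPolynomial (Fin n) R') (R' ⊗[R] A) :=
    IsScalarTower.of_algebraMap_eq fun r => by
      rw [IsScalarTower.algebraMap_apply R R' (MvPolynomial (Fin n) R')]
      exact ((bcPres (R' := R') α).commutes (algebraMap R R' r)).symm
  have : IsScalarTower R' (MvPolynomial (Fin n) R') (R' ⊗[R] A) :=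
    IsScalarTower.of_algebraMap_eq fun r => ((bcPres (R' := R') α).commutes r).symm
  have hA : Algebra.IsPushout R A R' (R' ⊗[R] A) :=
    Algebra.IsPushout.symm (inferInstance : Algebra.IsPushout R R' A (R' ⊗[R] A))
  have key : Algebra.IsPushout (MvPolynomial (Fin n) R) A (MvPolynomial (Fin n) R') (R' ⊗[R] A) :=
    (Algebra.IsPushout.comp_iff R (MvPolynomial (Fin n) R) R' (S' := MvPolynomial (Fin n) R')).1 hA
  have h5 : (MvPolynomial.map (σ := Fin n) (algebraMap R R')).toAlgebra =
      MvPolynomial.algebraMvPolynomial := Algebra.algebra_ext _ _ fun p => (hb p).symm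
  convert key.symm using 1
  all_goals rfl

theorem rel_lBaseChange_base (htor : ∀ p : ℕ, 0 < p → Subsingleton (DRing.Tor R p A R'))
    [DRing.HasLBaseChange (Algebra.TensorProduct.includeRight : A →ₐ[R] R' ⊗[R] A).toRingHom]
    (K : Dual.D A) (m : ℤ) (hK : DerCA.IsRelPseudoCoherent R A m K) :
    DerCA.IsRelPseudoCoherent R' (R' ⊗[R] A) m
      ((DRing.LBaseChange (Algebra.TensorProduct.includeRight : A →ₐ[R] R' ⊗[R] A).toRingHom).obj K) := by
  obtain ⟨n, α, hα, hP⟩ := hK
  obtain ⟨d, hd⟩ := exists_bound_rel ⟨n, α, hα, hP⟩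
  obtain ⟨X, hX, hXp, ⟨eX⟩⟩ := DR.exists_projective_rep K d hd
  have hXK : KF.IsKFlat X := KF.isKFlat_of_vanishesAbove hX fun i => by
    have := hXp i
    infer_instance
  let φ : MvPolynomial (Fin n) R →+* A := α
  let ρ : MvPolynomial (Fin n) R →+* MvPolynomial (Fin n) R' := MvPolynomial.map (algebraMap R R')
  let resX := (DRing.restrictCx φ).obj X
  have hP' : DRing.IsPseudoCoherent (MvPolynomial (Fin n) R) m (DRing.toD resX) :=
    DerBC.isPseudoCoherent_of_iso ((DRing.restrictD φ).mapIso eX.symm ≪≫ DR.restrictToDIso φ X) hP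
  obtain ⟨Q, hQ, hQp, ⟨eQ⟩⟩ := DR.exists_projective_rep (DRing.toD resX) d fun i hi =>
    (DR.exactAt_iff resX i).1 (ShortComplex.exact_of_isZero_X₂ _
      ((ModuleCat.restrictScalars.{u} φ).map_isZero (hX i hi)))
  have := DR.isKProjective Q d hQ hQp
  obtain ⟨q, hq⟩ := DR.exists_lift Q eQ.hom
  have : QuasiIso q := (DerivedCategory.isIso_Q_map_iff_quasiIso (ModuleCat.{u} (MvPolynomial (Fin n) R)) q).1
    (by rw [hq]; infer_instance)
  let ψ : R →+* MvPolynomial (Fin n) R := MvPolynomial.C
  let qR := (DRing.restrictCx ψ).map q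
  have : QuasiIso qR :=
    (HomologicalComplex.quasiIso_map_iff_of_preservesHomology q (ModuleCat.restrictScalars.{u} ψ)).2 inferInstance
  let cR : (DRing.restrictCx ψ).obj resX ≅ (DRing.restrictCx (algebraMap R A)).obj X :=
    (Functor.mapHomologicalComplexCompIso (ModuleCat.restrictScalarsComp'.{u} ψ φ (algebraMap R A)
      (RingHom.ext fun r => (α.commutes r).symm)).symm _).app X
  have hQR : KF.IsKFlat ((DRing.restrictCx ψ).obj Q) :=
    KF.isKFlat_of_vanishesAbove (b := d) (fun i hi => (ModuleCat.restrictScalars.{u} ψ).map_isZero (hQ i hi))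
      fun i => by
        let : Module R (Q.X i) := Module.compHom (Q.X i) ψ
        have : IsScalarTower R (MvPolynomial (Fin n) R) (Q.X i) :=
          IsScalarTower.of_algebraMap_smul fun _ _ => rfl
        have := hQp i
        exact (Module.Flat.trans R (MvPolynomial (Fin n) R) (Q.X i) :)
  have h1 : QuasiIso ((DR.bc (algebraMap R R')).map (qR ≫ cR.hom)) :=
    DR.quasiIso_bc_map_of_torIndep (algebraMap R A) (algebraMap R R') (by
      have e1 : (algebraMap R A).toAlgebra = ‹Algebra R A› := Algebra.algebra_ext _ _ fun _ => rfl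
      have e2 : (algebraMap R R').toAlgebra = ‹Algebra R R'› := Algebra.algebra_ext _ _ fun _ => rfl
      rw [e1, e2]
      exact fun p hp => htor p hp) hXK hQR (qR ≫ cR.hom)
  have h2 : QuasiIso ((DR.bc (algebraMap R R')).map qR) := by
    rw [Functor.map_comp] at h1
    exact (quasiIso_iff_comp_right _ ((DR.bc (algebraMap R R')).map cR.hom)).1 h1
  have hiso := fun Y => DR.isIso_canCx map_comp_C (isPushoutHom_poly (R := R) (R' := R') (n := n)) Y
  have h3 : QuasiIso ((DRing.restrictCx (MvPolynomial.C : R' →+* MvPolynomial (Fin n) R')).map ((DR.bc ρ).map q)) := by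
    have hnat : (DR.bc (algebraMap R R')).map qR ≫ DR.canCx map_comp_C resX = DR.canCx map_comp_C Q ≫
        (DRing.restrictCx (MvPolynomial.C : R' →+* MvPolynomial (Fin n) R')).map ((DR.bc ρ).map q) :=
      canCx_natural map_comp_C q
    have := hiso resX
    have := hiso Q
    have h4 : QuasiIso ((DR.bc (algebraMap R R')).map qR ≫ DR.canCx map_comp_C resX) := inferInstance
    rw [hnat] at h4
    exact (quasiIso_iff_comp_left (DR.canCx map_comp_C Q) _).1 h4
  have h5 : QuasiIso ((DR.bc ρ).map q) := (HomologicalComplex.quasiIso_map_iff_of_preservesHomology _ (ModuleCat.restrictScalars.{u} _)).1 h3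
  have := DR.isIso_canCx (bcPres_comp α) (isPushoutHom_pres (R' := R') α) X
  obtain ⟨eL⟩ := KF.lBase_value (Algebra.TensorProduct.includeRight : A →ₐ[R] R' ⊗[R] A).toRingHom hXK
  have hQ' : DRing.IsPseudoCoherent (MvPolynomial (Fin n) R') m (DRing.toD ((DR.bc ρ).obj Q)) := by
    have := KF.hasLBaseChange ρ
    obtain ⟨eq⟩ := KF.lBase_value ρ (KF.isKFlat_of_vanishesAbove hQ fun i => by
      have := hQp i
      infer_instance)
    exact DerBC.isPseudoCoherent_of_iso eq
      (DerBC.isPseudoCoherent_lBaseChange (φ := ρ) _ m (DerBC.isPseudoCoherent_of_iso eQ.symm hP'))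
  refine rel_iso (eL.symm ≪≫ (DRing.LBaseChange _).mapIso eX) ⟨n, bcPres α, bcPres_surjective α hα, ?_⟩
  exact DerBC.isPseudoCoherent_of_iso ((@asIso _ _ _ _ _
    ((DerivedCategory.isIso_Q_map_iff_quasiIso (ModuleCat.{u} (MvPolynomial (Fin n) R')) ((DR.bc ρ).map q)).2 h5)) ≪≫
    DerivedCategory.Q.mapIso (asIso (DR.canCx (bcPres_comp α) X)) ≪≫ (DR.restrictToDIso _ _).symm) hQ'

end GrothLib.RelPC
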