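import Groth.Agent.Lib.RelPC.Transport
import Groth.Agent.Lib.DCxKFlat.Finite
import Groth.Agent.Lib.DCxKFlat.BaseChange
import Groth.Agent.Lib.DCxRing.Stupid
import Mathlib.Algebra.Homology.BifunctorShift

/-!
# Tensoring with a complex of finite free modules

If `X` restricts to an `m`-pseudo-coherent complex, so does its tensor product with a bounded above complex
of finite free modules living in nonpositive degrees.
-/

set_option autoImplicit false
universe u

open CategoryTheory CategoryTheory.Limits MonoidalCategory HomologicalComplex Pretriangulated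

attribute [local instance] HasDerivedCategory.standard

namespace GrothLib.RelPC

variable {Q C : Type u} [CommRing Q] [CommRing C] (M : Q →+* C) (X : DRing.Cx C)

/-- The property propagated along the dévissage. -/
def Good (m : ℤ) (E : DRing.Cx C) : Prop :=
  DRing.IsPseudoCoherent Q m ((DRing.restrictD M).obj (DRing.toD (X ⊗ E)))

theorem good_iso {m : ℤ} {E E' : DRing.Cx C} (e : E ≅ E') (h : Good M X m E) : Good M X m E' :=
  DerBC.isPseudoCoherent_of_iso ((DRing.restrictD M).mapIso
    (DerivedCategory.Q.mapIso ((tensorLeft X).mapIso e))) h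

theorem good_zero (m : ℤ) {E : DRing.Cx C} (h : IsZero E) : Good M X m E :=
  DR.isPseudoCoherent_of_vanishing _ m fun i _ => DR.subsingleton_HD_of_isZero
    (Functor.map_isZero _ (Functor.map_isZero _ (((KF.tensorCx (R := C)).obj X).map_isZero h))) i

theorem good_ext {m : ℤ} (S : ShortComplex (DRing.Cx C)) (hS : S.ShortExact)
    (hflat : DRing.TermwiseFlat S.X₃) (h₁ : Good M X m S.X₁) (h₃ : Good M X m S.X₃) : Good M X m S.X₂ :=
  (DerBC.isPseudoCoherent_triangle _ ((DRing.restrictD M).map_distinguished _
    (DerivedCategory.triangleOfSES_distinguished (KF.tensorCx_shortExact_of_flat hS hflat X))) m).2.1 h₁ h₃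

/-- A single finite free module in degree zero. -/
theorem good_single_zero {m : ℤ} (hX : DRing.IsPseudoCoherent Q m ((DRing.restrictD M).obj (DRing.toD X)))
    (F : ModuleCat.{u} C) (hF : Module.Finite C F) (hF' : Module.Free C F) :
    Good M X m ((single (ModuleCat.{u} C) (ComplexShape.up ℤ) 0).obj F) := by
  have key : ∀ r : ℕ, Good M X m
      ((single (ModuleCat.{u} C) (ComplexShape.up ℤ) 0).obj (ModuleCat.of C (Fin r → C))) := by
    intro r
    induction r with
    | zero =>
      exact good_zero M X m (Functor.map_isZero _ (ModuleCat.isZero_of_subsingleton _))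
    | succ r ih =>
      let S : ShortComplex (ModuleCat.{u} C) := ShortComplex.mk
        (ModuleCat.ofHom (LinearMap.inl C C (Fin r → C))) (ModuleCat.ofHom (LinearMap.snd C C (Fin r → C)))
        (ModuleCat.hom_ext (LinearMap.ext fun _ => rfl))
      have hS : S.ShortExact :=
        { exact := (ShortComplex.ShortExact.moduleCat_exact_iff_function_exact _).2 Function.Exact.inl_snd
          mono_f := (ModuleCat.mono_iff_injective _).2 LinearMap.inl_injective
          epi_g := (ModuleCat.epi_iff_surjective _).2 LinearMap.snd_surjective }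
      have h1 : Good M X m ((single (ModuleCat.{u} C) (ComplexShape.up ℤ) 0).obj (ModuleCat.of C C)) :=
        DerBC.isPseudoCoherent_of_iso ((DRing.restrictD M).mapIso (DerivedCategory.Q.mapIso (ρ_ X).symm)) hX
      refine good_iso M X ((single (ModuleCat.{u} C) (ComplexShape.up ℤ) 0).mapIso
        (Fin.consLinearEquiv C fun _ : Fin (r + 1) => C).toModuleIso) ?_
      exact good_ext M X (S.map (single (ModuleCat.{u} C) (ComplexShape.up ℤ) 0))
        (HomologicalComplex.shortExact_of_degreewise_shortExact
          (S.map (single (ModuleCat.{u} C) (ComplexShape.up ℤ) 0)) fun i => by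
          by_cases hi : i = 0
          · subst hi
            exact ShortComplex.shortExact_of_iso
              (ShortComplex.isoMk (singleObjXSelf (ComplexShape.up ℤ) 0 S.X₁).symm
                (singleObjXSelf (ComplexShape.up ℤ) 0 S.X₂).symm (singleObjXSelf (ComplexShape.up ℤ) 0 S.X₃).symm
                (by
                  change _ ≫ ((single (ModuleCat.{u} C) (ComplexShape.up ℤ) 0).map S.f).f 0 = _
                  rw [single_map_f_self]; exact Iso.inv_hom_id_assoc _ _)
                (by
                  change _ ≫ ((single (ModuleCat.{u} C) (ComplexShape.up ℤ) 0).map S.g).f 0 = _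
                  rw [single_map_f_self]; exact Iso.inv_hom_id_assoc _ _)) hS
          · have hz : ∀ Y : ModuleCat.{u} C, IsZero (((single (ModuleCat.{u} C) (ComplexShape.up ℤ) 0).obj Y).X i) :=
              fun Y => isZero_single_obj_X _ _ _ _ hi
            exact { exact := ShortComplex.exact_of_isZero_X₂ _ (hz _)
                    mono_f := ⟨fun a b _ => (hz _).eq_of_tgt a b⟩
                    epi_g := ⟨fun a b _ => (hz _).eq_of_src a b⟩ })
        (KF.flatTerms_single _ (inferInstanceAs (Module.Flat C (Fin r → C))) 0) h1 ih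
  let b : F ≃ₗ[C] (Fin (Fintype.card (Module.Free.ChooseBasisIndex C F)) → C) :=
    ((Module.Free.chooseBasis C F).reindex (Fintype.equivFin _)).equivFun
  exact good_iso M X ((single (ModuleCat.{u} C) (ComplexShape.up ℤ) 0).mapIso b.toModuleIso.symm) (key _)

/-- A single finite free module in degree `n`. -/
theorem good_single {m : ℤ} (hX : DRing.IsPseudoCoherent Q m ((DRing.restrictD M).obj (DRing.toD X)))
    (F : ModuleCat.{u} C) (hF : Module.Finite C F) (hF' : Module.Free C F) (n : ℤ) (hn : n ≤ 0) :
    Good M X m ((single (ModuleCat.{u} C) (ComplexShape.up ℤ) n).obj F) := by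
  refine good_iso M X (((CochainComplex.singleFunctors (ModuleCat.{u} C)).shiftIso (-n) n 0 (by omega)).app F) ?_
  let F₀ := (single (ModuleCat.{u} C) (ComplexShape.up ℤ) 0).obj F
  refine DerBC.isPseudoCoherent_of_iso
    ((((DRing.restrictD M).commShiftIso (-n)).app (DRing.toD (X ⊗ F₀))).symm ≪≫
      (DRing.restrictD M).mapIso ((((DerivedCategory.Q (C := ModuleCat.{u} C)).commShiftIso (-n)).app _).symm ≪≫
        DerivedCategory.Q.mapIso (CochainComplex.mapBifunctorShift₂Iso X F₀
          (curriedTensor (ModuleCat.{u} C)) (-n)).symm)) ?_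
  exact DR.isPseudoCoherent_mono (show m + n ≤ m by omega)
    (DerBC.isPseudoCoherent_shift (good_single_zero M X hX F hF hF') (-n) (m + n) (by omega))

theorem vanishesAbove_tensor {X : DRing.Cx C} {E : DRing.Cx C} {d e : ℤ} (hX : DRing.VanishesAbove X d)
    (hE : DRing.VanishesAbove E e) : DRing.VanishesAbove (X ⊗ E) (d + e) := fun n hn => by
  rw [IsZero.iff_id_eq_zero]
  refine HomologicalComplex.mapBifunctor.hom_ext fun p q h => ?_
  have h' : p + q = n := h
  refine IsZero.eq_of_src ?_ _ _
  by_cases hp : d < p
  · exact ((curriedTensor (ModuleCat.{u} C)).flip.obj (E.X q)).map_isZero (hX p hp)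
  · exact ((curriedTensor (ModuleCat.{u} C)).obj (X.X p)).map_isZero (hE q (by omega))

/-- The dévissage. -/
theorem good_finiteFree {m d : ℤ} (hd : DRing.VanishesAbove X d)
    (hX : DRing.IsPseudoCoherent Q m ((DRing.restrictD M).obj (DRing.toD X)))
    {E : DRing.Cx C} (hE : DRing.VanishesAbove E 0) (hEf : DRing.TermwiseFiniteFree E) : Good M X m E := by
  have hflat : ∀ i, Module.Flat C (E.X i) := fun i => by
    have := DR.projective_of_finiteFree hEf i
    infer_instance
  have hσ : ∀ (k : ℕ) (n : ℤ), 1 ≤ n + k → Good M X m (DerBC.sigmaGE n E) := by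
    intro k
    induction k with
    | zero =>
      intro n hn
      refine good_zero M X m ((IsZero.iff_id_eq_zero _).2 (HomologicalComplex.hom_ext _ _ fun i => ?_))
      refine IsZero.eq_of_src ?_ _ _
      by_cases h : i < n
      · exact DerBC.isZero_sigmaGE E h
      · exact DR.isZero_sigmaGE_of n i E (hE i (by push_cast at hn; omega))
    | succ k ih =>
      intro n hn
      by_cases hn0 : n ≤ 0
      · exact good_ext M X (ShortComplex.mk _ _ (DR.sigmaMap_top n E)) (DR.sigma_shortExact n E) (KF.flatTerms_single _ (hflat n) n)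
          (ih (n + 1) (by push_cast at hn; omega)) (good_single M X hX _ (hEf n).1 (hEf n).2 n hn0)
      · refine good_zero M X m ((IsZero.iff_id_eq_zero _).2 (HomologicalComplex.hom_ext _ _ fun i => ?_))
        refine IsZero.eq_of_src ?_ _ _
        by_cases h : i < n
        · exact DerBC.isZero_sigmaGE E h
        · exact DR.isZero_sigmaGE_of n i E (hE i (by omega))
  let k : ℤ := min (m - d) 0
  have hmono : Mono (DerBC.sigmaι k E) := HomologicalComplex.mono_of_mono_f _ fun i => inferInstance
  let S : ShortComplex (DRing.Cx C) :=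
    ShortComplex.mk (DerBC.sigmaι k E) (cokernel.π (DerBC.sigmaι k E)) (cokernel.condition _)
  have hS : S.ShortExact :=
    { exact := ShortComplex.exact_of_g_is_cokernel _ (cokernelIsCokernel _) }
  have hev := fun i => hS.map_of_exact (HomologicalComplex.eval (ModuleCat.{u} C) (ComplexShape.up ℤ) i)
  have hz : DRing.VanishesAbove S.X₃ (k - 1) := fun i hi =>
    (hev i).isIso_f_iff.1 (DerBC.isIso_sigmaι_f E (show k ≤ i by omega))
  have hfl : DRing.TermwiseFlat S.X₃ := fun i => by
    by_cases h : k ≤ i
    · have := ModuleCat.subsingleton_of_isZero (hz i (by omega))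
      infer_instance
    · have : IsIso ((cokernel.π (DerBC.sigmaι k E)).f i) :=
        (hev i).isIso_g_iff.2 (DerBC.isZero_sigmaGE E (by omega))
      have := hflat i
      exact Module.Flat.of_linearEquiv (asIso ((cokernel.π (DerBC.sigmaι k E)).f i)).symm.toLinearEquiv
  refine good_ext M X S hS hfl (hσ (1 - k).toNat k (by omega)) ?_
  refine DerBC.isPseudoCoherent_of_iso (DR.restrictToDIso M _).symm ?_
  exact DR.isPseudoCoherent_of_vanishing _ m fun i hi => (DR.exactAt_iff _ i).1
    (ShortComplex.exact_of_isZero_X₂ _ ((ModuleCat.restrictScalars.{u} M).map_isZero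
      (vanishesAbove_tensor hd hz i (by omega))))

end GrothLib.RelPC
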