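import Groth.Agent.Lib.RelPC.MapPoly
import Groth.Agent.Lib.RelPC.Dev
import Groth.Agent.Lib.DCxKFlat.LBaseKFlat
import Groth.Agent.Lib.DTen.Values

/-!
# Base change and relative pseudo-coherence
-/

set_option autoImplicit false
universe u

open CategoryTheory CategoryTheory.Limits MonoidalCategory HomologicalComplex
open scoped TensorProduct

attribute [local instance] HasDerivedCategory.standard

namespace GrothLib.RelPC

open GrothLib.DR (RingPseudoCoherent)

section Push

variable {P A Q D : Type u} [CommRing P] [CommRing A] [CommRing Q] [CommRing D]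
  (φ : P →+* A) (ιP : P →+* Q) (ιA : A →+* D) (M : Q →+* D)

/-- `D` is the pushout of `A` and `Q`. -/
def IsPush : Prop :=
  letI := φ.toAlgebra
  letI := ιP.toAlgebra
  letI := ιA.toAlgebra
  ∃ e : A ⊗[P] Q ≃ₗ[A] D, ∀ (a : A) (q : Q), e (a ⊗ₜ[P] q) = ιA a * M q

theorem exists_pushBaseChange (h : IsPush φ ιP ιA M) (X : ModuleCat.{u} A) :
    letI := φ.toAlgebra
    letI := ιP.toAlgebra
    letI := ιA.toAlgebra
    letI : Module P X := Module.compHom X φ
    ∃ e : (ModuleCat.extendScalars.{u, u, u} ιP).obj ((ModuleCat.restrictScalars.{u} φ).obj X) ≅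
        (ModuleCat.restrictScalars.{u} M).obj ((ModuleCat.extendScalars.{u, u, u} ιA).obj X),
      ∀ (q : Q) (x : X), e.hom.hom (q ⊗ₜ[P] x) = M q ⊗ₜ[A] x := by
  algebraize [φ, ιP, ιA]
  obtain ⟨eD, heD⟩ := h
  let : Module P X := Module.compHom X φ
  have : IsScalarTower P A X := IsScalarTower.of_algebraMap_smul fun _ _ => rfl
  let e₀ : Q ⊗[P] X ≃+ D ⊗[A] X :=
    (TensorProduct.comm P Q X).toAddEquiv.trans
      ((TensorProduct.AlgebraTensorModule.cancelBaseChange P A A X Q).symm.toAddEquiv.trans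
        ((TensorProduct.congr (LinearEquiv.refl A X) eD).toAddEquiv.trans
          (TensorProduct.comm A X D).toAddEquiv))
  have h0 : ∀ (q : Q) (x : X), e₀ (q ⊗ₜ[P] x) = M q ⊗ₜ[A] x := by
    intro q x
    simp [e₀, heD]
  have he : ∀ (q : Q) (z : Q ⊗[P] X), e₀ (q • z) = M q • e₀ z := by
    intro q z
    induction z using TensorProduct.induction_on with
    | zero => simp
    | tmul q' x =>
      rw [TensorProduct.smul_tmul', h0, h0, TensorProduct.smul_tmul', smul_eq_mul, smul_eq_mul, map_mul]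
    | add z w hz hw => rw [smul_add, map_add, map_add, hz, hw, smul_add]
  let L : (ModuleCat.extendScalars.{u, u, u} ιP).obj ((ModuleCat.restrictScalars.{u} φ).obj X) ≃ₗ[Q]
      (ModuleCat.restrictScalars.{u} M).obj ((ModuleCat.extendScalars.{u, u, u} ιA).obj X) :=
    { e₀ with map_smul' := he }
  exact ⟨L.toModuleIso, h0⟩

/-- Restriction commutes with base change along a pushout. -/
noncomputable def pushBaseChangeIso (h : IsPush φ ιP ιA M) :
    ModuleCat.restrictScalars.{u} φ ⋙ ModuleCat.extendScalars.{u, u, u} ιP ≅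
      ModuleCat.extendScalars.{u, u, u} ιA ⋙ ModuleCat.restrictScalars.{u} M :=
  NatIso.ofComponents (fun X => (exists_pushBaseChange φ ιP ιA M h X).choose) fun {X Y} g => by
    algebraize [φ, ιP, ιA]
    let : Module P X := Module.compHom X φ
    let : Module P Y := Module.compHom Y φ
    have hX := (exists_pushBaseChange φ ιP ιA M h X).choose_spec
    have hY := (exists_pushBaseChange φ ιP ιA M h Y).choose_spec
    refine ModuleCat.hom_ext (LinearMap.ext fun z => ?_)
    induction z using TensorProduct.induction_on with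
    | zero => exact (map_zero _).trans (map_zero _).symm
    | tmul q x =>
      refine (hY q (g.hom x)).trans ?_
      exact ((congrArg ((ModuleCat.extendScalars.{u, u, u} ιA).map g).hom (hX q x))).symm
    | add z w hz hw => exact (map_add _ z w).trans ((congrArg₂ (· + ·) hz hw).trans (map_add _ z w).symm)

end Push

section Poly

variable {P A : Type u} [CommRing P] [CommRing A] (φ : P →+* A) (σ : Type)

theorem isPush_poly : IsPush φ (MvPolynomial.C : P →+* MvPolynomial σ P)
    (MvPolynomial.C : A →+* MvPolynomial σ A) (MvPolynomial.map (σ := σ) φ) := by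
  unfold IsPush
  algebraize [φ]
  have h1 : (MvPolynomial.C : P →+* MvPolynomial σ P).toAlgebra = (inferInstance : Algebra P (MvPolynomial σ P)) :=
    Algebra.algebra_ext _ _ fun _ => rfl
  have h2 : (MvPolynomial.C : A →+* MvPolynomial σ A).toAlgebra = (inferInstance : Algebra A (MvPolynomial σ A)) :=
    Algebra.algebra_ext _ _ fun _ => rfl
  rw [h1, h2]
  refine ⟨(MvPolynomial.algebraTensorAlgEquiv (σ := σ) P A).toLinearEquiv, fun a q => ?_⟩
  exact (MvPolynomial.algebraTensorAlgEquiv_tmul P A a q).trans (MvPolynomial.smul_eq_C_mul _ a)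

theorem pc_polyExtend {X : DRing.Cx A} {m : ℤ}
    (hX : DRing.IsPseudoCoherent P m ((DRing.restrictD φ).obj (DRing.toD X))) :
    DRing.IsPseudoCoherent (MvPolynomial σ P) m ((DRing.restrictD (MvPolynomial.map (σ := σ) φ)).obj
      (DRing.toD ((DR.bc (MvPolynomial.C : A →+* MvPolynomial σ A)).obj X))) := by
  have := DR.preservesFiniteLimits_extendScalars (MvPolynomial.C : P →+* MvPolynomial σ P)
    (show (algebraMap P (MvPolynomial σ P)).Flat from DR.flat_algebraMap)
  have := (ModuleCat.extendRestrictScalarsAdj.{u} (MvPolynomial.C : P →+* MvPolynomial σ P)).leftAdjoint_preservesColimits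
  have h := DR.isPseudoCoherent_map (ModuleCat.extendScalars.{u, u, u} (MvPolynomial.C : P →+* MvPolynomial σ P))
    (fun N hf hfr => DerBC.finiteFree_extendScalars _ N hf hfr)
    (DerBC.isPseudoCoherent_of_iso (DR.restrictToDIso φ X) hX)
  refine DerBC.isPseudoCoherent_of_iso (DerivedCategory.Q.mapIso ?_ ≪≫ (DR.restrictToDIso _ _).symm) h
  exact (Functor.mapHomologicalComplexCompIso (Iso.refl _) _).app X ≪≫
    (NatIso.mapHomologicalComplex (pushBaseChangeIso φ _ _ _ (isPush_poly φ σ)) _).app X ≪≫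
    ((Functor.mapHomologicalComplexCompIso (Iso.refl _) _).app X).symm

end Poly

section Along

variable {Q C B : Type u} [CommRing Q] [CommRing C] [CommRing B] (M : Q →+* C) (β : C →+* B)

/-- Base change along a pseudo-coherent map. -/
theorem pc_bc_of_ringPC (hβ : RingPseudoCoherent β) {X : DRing.Cx C} {m d : ℤ}
    (hd : DRing.VanishesAbove X d) (hXp : ∀ i, Module.Projective C (X.X i))
    (hX : DRing.IsPseudoCoherent Q m ((DRing.restrictD M).obj (DRing.toD X))) :
    DRing.IsPseudoCoherent Q m ((DRing.restrictD (β.comp M)).obj (DRing.toD ((DR.bc β).obj X))) := by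
  let G := DRing.restrictCx β
  let U : DRing.Cx C := G.obj (𝟙_ (DRing.Cx B))
  obtain ⟨eU⟩ := DR.nonempty_map_inD (ModuleCat.restrictScalars.{u} β) B
  have hU' : DRing.IsPseudoCoherent' C (DRing.toD U) := DR.isPseudoCoherent'_of_iso eU.symm hβ
  have hU0 : DRing.VanishesAbove U 0 := fun i hi =>
    (ModuleCat.restrictScalars.{u} β).map_isZero (isZero_single_obj_X _ _ _ _ (by omega))
  obtain ⟨P₀, hP₀, hP₀p, ⟨e₀⟩⟩ := DR.exists_projective_rep (DRing.toD U) 0 fun i hi =>
    (DR.exactAt_iff U i).1 (ShortComplex.exact_of_isZero_X₂ _ (hU0 i hi))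
  obtain ⟨E, f₀, hE, hEf, hq⟩ := DR.exists_finiteFree_quasiIso hP₀ fun k _ =>
    DR.canStep_of_isPseudoCoherent (DerBC.isPseudoCoherent_of_iso e₀.symm (DR.isPseudoCoherent_of_prime hU' (k - 1)))
  have := DR.isKProjective P₀ 0 hP₀ hP₀p
  obtain ⟨g, hg⟩ := DR.exists_lift P₀ e₀.hom
  have : QuasiIso g := (DerivedCategory.isIso_Q_map_iff_quasiIso (ModuleCat.{u} C) g).1 (by rw [hg]; infer_instance)
  have hXK : KF.IsKFlat X := KF.isKFlat_of_vanishesAbove hd fun i => by
    have := hXp i
    infer_instance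
  have hf : QuasiIso ((f₀ ≫ g) ▷ X) := DT.quasiIso_whiskerRight_of_isKFlat (f₀ ≫ g) hXK
  have h := good_finiteFree M X hd hX hE hEf
  let i₁ : DRing.toD (X ⊗ E) ≅ DRing.toD (U ⊗ X) :=
    DerivedCategory.Q.mapIso (DTen.braidCx X E) ≪≫
      (@asIso _ _ _ _ _ ((DerivedCategory.isIso_Q_map_iff_quasiIso (ModuleCat.{u} C) ((f₀ ≫ g) ▷ X)).2 hf))
  let i₂ : DRing.toD (U ⊗ X) ≅ (DRing.restrictD β).obj (DRing.toD ((DR.bc β).obj X)) :=
    DerivedCategory.Q.mapIso ((KF.baseChangeTensorIso β (𝟙_ (DRing.Cx B)) X).symm ≪≫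
      G.mapIso (λ_ ((DR.bc β).obj X))) ≪≫ (DR.restrictToDIso β _).symm
  exact (pc_congr (((DRing.restrictD M).mapIso (i₁ ≪≫ i₂)) ≪≫ (DR.restrictDComp M β (β.comp M) rfl).app _) m).1 h

end Along

variable {R A B : Type u} [CommRing R] [CommRing A] [CommRing B] [Algebra R A] [Algebra A B] [Algebra R B]
  [IsScalarTower R A B]

theorem exists_bound_rel {K : Dual.D A} {m : ℤ} (hK : DerCA.IsRelPseudoCoherent R A m K) :
    ∃ d : ℤ, ∀ i, d < i → Subsingleton (Dual.HD A K i) := by
  obtain ⟨n, α, -, h⟩ := hK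
  obtain ⟨d, -, hd⟩ := DR.exists_bound h
  exact ⟨d, fun i hi => (subsingleton_HD_restrict_iff _ K i).1 (hd i hi)⟩

theorem rel_iso {K L : Dual.D A} (e : K ≅ L) {m : ℤ} (h : DerCA.IsRelPseudoCoherent R A m K) :
    DerCA.IsRelPseudoCoherent R A m L :=
  let ⟨n, α, hα, h'⟩ := h
  ⟨n, α, hα, DerBC.isPseudoCoherent_of_iso ((DRing.restrictD _).mapIso e) h'⟩

/-- Derived base change to a relatively pseudo-coherent algebra. -/
theorem rel_lBaseChange [Algebra.FiniteType R A] [Algebra.FiniteType A B]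
    (hB : DerCA.IsRelPseudoCoherentModuleAll A B B) [DRing.HasLBaseChange (algebraMap A B)]
    (K : Dual.D A) (m : ℤ) (hK : DerCA.IsRelPseudoCoherent R A m K) :
    DerCA.IsRelPseudoCoherent R B m ((DRing.LBaseChange (algebraMap A B)).obj K) := by
  obtain ⟨d, hd⟩ := exists_bound_rel hK
  obtain ⟨X, hX, hXp, ⟨eX⟩⟩ := DR.exists_projective_rep K d hd
  obtain ⟨n, α, hα⟩ := exists_pres (R := R) (A := A)
  obtain ⟨k, β, hβ⟩ := exists_pres (R := A) (A := B)
  obtain ⟨γ, e, hγ, hcomp⟩ := exists_pres_comp α hα β hβ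
  have hP := (rel_iff α hα _ m).1 (rel_iso eX.symm hK)
  have h₁ := pc_polyExtend (α : MvPolynomial (Fin n) R →+* A) (Fin k) hP
  have hX₁ : DRing.VanishesAbove ((DR.bc (MvPolynomial.C : A →+* MvPolynomial (Fin k) A)).obj X) d :=
    fun i hi => (ModuleCat.extendScalars _).map_isZero (hX i hi)
  have hX₁p : ∀ i, Module.Projective (MvPolynomial (Fin k) A)
      (((DR.bc (MvPolynomial.C : A →+* MvPolynomial (Fin k) A)).obj X).X i) := fun i => by
    have := hXp i
    obtain ⟨i₀⟩ := DR.nonempty_extendScalars_iso (A := A) (B := MvPolynomial (Fin k) A) (X.X i)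
    exact Module.Projective.of_equiv (i₀.toLinearEquiv)
  have h₂ := pc_bc_of_ringPC _ (β : MvPolynomial (Fin k) A →+* B) (ringPC_of_relPC_self hB β hβ) hX₁ hX₁p h₁
  obtain ⟨eL⟩ := KF.lBase_value (algebraMap A B) (KF.isKFlat_of_vanishesAbove hX fun i => by
    have := hXp i
    infer_instance)
  have hβC : algebraMap A B = (β : MvPolynomial (Fin k) A →+* B).comp MvPolynomial.C :=
    RingHom.ext fun a => (β.commutes a).symm
  let eC : (DR.bc (β : MvPolynomial (Fin k) A →+* B)).obj
      ((DR.bc (MvPolynomial.C : A →+* MvPolynomial (Fin k) A)).obj X) ≅ (DR.bc (algebraMap A B)).obj X :=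
    (Functor.mapHomologicalComplexCompIso (ModuleCat.extendScalarsComp
      (MvPolynomial.C : A →+* MvPolynomial (Fin k) A) (β : MvPolynomial (Fin k) A →+* B)).symm _).app X ≪≫
      (NatIso.mapHomologicalComplex (eqToIso (by rw [hβC])) _).app X
  refine rel_iso (DerivedCategory.Q.mapIso eC ≪≫ eL.symm ≪≫ (DRing.LBaseChange (algebraMap A B)).mapIso eX) ?_
  rw [rel_iff γ hγ]
  exact (pc_restrict_comp (ringPC_equiv e) hcomp _ m).2 h₂

end GrothLib.RelPC
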