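import Groth.Agent.Lib.RelPC.BaseChange
import Mathlib.RingTheory.Localization.Away.AdjoinRoot

/-!
# Flat base change and localisations
-/

set_option autoImplicit false
universe u

open CategoryTheory CategoryTheory.Limits MonoidalCategory HomologicalComplex
open scoped TensorProduct

attribute [local instance] HasDerivedCategory.standard

namespace GrothLib.RelPC

variable {R A B : Type u} [CommRing R] [CommRing A] [CommRing B] [Algebra R A] [Algebra A B] [Algebra R B]
  [IsScalarTower R A B]

/-- Derived base change along a flat map is termwise base change. -/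
theorem nonempty_lBase_flat {C D : Type u} [CommRing C] [CommRing D] (φ : C →+* D) (hφ : φ.Flat)
    [DRing.HasLBaseChange φ] (Y : DRing.Cx C) :
    Nonempty ((DRing.LBaseChange φ).obj (DRing.toD Y) ≅ DRing.toD ((DR.bc φ).obj Y)) := by
  obtain ⟨X, q, hX, hq⟩ := DT.exists_res Y
  obtain ⟨e⟩ := KF.lBase_value φ hX
  have := DR.preservesFiniteLimits_extendScalars φ hφ
  have := (ModuleCat.extendRestrictScalarsAdj.{u} φ).leftAdjoint_preservesColimits
  exact ⟨(DRing.LBaseChange φ).mapIso (asIso (DerivedCategory.Q.map q)).symm ≪≫ e ≪≫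
    DR.toDMapCongr (ModuleCat.extendScalars.{u, u, u} φ) (asIso (DerivedCategory.Q.map q))⟩

/-- Flat base change to a relatively pseudo-coherent algebra. -/
theorem rel_bc_of_flat [Algebra.FiniteType R A] [Algebra.FiniteType A B] [Module.Flat A B]
    (hB : DerCA.IsRelPseudoCoherentModuleAll A B B) (Y : DRing.Cx A) (m : ℤ)
    (hY : DerCA.IsRelPseudoCoherent R A m (DRing.toD Y)) :
    DerCA.IsRelPseudoCoherent R B m (DRing.toD ((DR.bc (algebraMap A B)).obj Y)) := by
  have := KF.hasLBaseChange (algebraMap A B)
  obtain ⟨e⟩ := nonempty_lBase_flat (algebraMap A B) DR.flat_algebraMap Y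
  exact rel_iso e (rel_lBaseChange hB _ m hY)

/-- Flat base change of relatively pseudo-coherent modules. -/
theorem relModule_bc_of_flat [Algebra.FiniteType R A] [Algebra.FiniteType A B] [Module.Flat A B]
    (hB : DerCA.IsRelPseudoCoherentModuleAll A B B) (M : Type u) [AddCommGroup M] [Module A M] (m : ℤ)
    (hM : DerCA.IsRelPseudoCoherentModule R A m M) :
    DerCA.IsRelPseudoCoherentModule R B m (B ⊗[A] M) := by
  have := DR.preservesFiniteLimits_extendScalars (algebraMap A B) DR.flat_algebraMap
  have : PreservesColimitsOfSize.{0, 0} (ModuleCat.extendScalars.{u, u, u} (algebraMap A B)) := (ModuleCat.extendRestrictScalarsAdj.{u} (algebraMap A B)).leftAdjoint_preservesColimits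
  obtain ⟨e₁⟩ := DR.nonempty_map_inD (ModuleCat.extendScalars.{u, u, u} (algebraMap A B)) M
  obtain ⟨e₂⟩ := DR.nonempty_extendScalars_iso (A := A) (B := B) M
  let e₀ : Dual.inD A M ≅ DRing.toD ((HomologicalComplex.single (ModuleCat.{u} A) (ComplexShape.up ℤ) 0).obj
      (ModuleCat.of A M)) :=
    ((SingleFunctors.evaluation _ _ 0).mapIso
      (DerivedCategory.singleFunctorsPostcompQIso (ModuleCat.{u} A))).app (ModuleCat.of A M)
  exact rel_iso (e₁ ≪≫ (DerivedCategory.singleFunctor (ModuleCat.{u} B) 0).mapIso e₂.symm)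
    (rel_bc_of_flat hB _ m (rel_iso e₀ hM))

section Away

theorem ringPC_adjoinRootMk_of_regular {S : Type u} [CommRing S] {g : Polynomial S}
    (hg : g ∈ nonZeroDivisors (Polynomial S)) : GrothLib.DR.RingPseudoCoherent (AdjoinRoot.mk g) := by
  let F := (ModuleCat.restrictScalars.{u} (AdjoinRoot.mk g)).obj (ModuleCat.of (AdjoinRoot g) (AdjoinRoot g))
  let mulg : Polynomial S →ₗ[Polynomial S] Polynomial S := LinearMap.mulLeft (Polynomial S) g
  let q : Polynomial S →ₗ[Polynomial S] F :=
    { toFun := fun p => (AdjoinRoot.mk g p : AdjoinRoot g)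
      map_add' := fun a b => map_add (AdjoinRoot.mk g) a b
      map_smul' := fun a b => map_mul (AdjoinRoot.mk g) a b }
  have hex : Function.Exact mulg q := fun p =>
    ⟨fun h => by
      obtain ⟨c, rfl⟩ := AdjoinRoot.mk_eq_zero.1 h
      exact ⟨c, rfl⟩,
    by
      rintro ⟨c, rfl⟩
      exact AdjoinRoot.mk_eq_zero.2 (dvd_mul_right g c)⟩
  let T := ShortComplex.mk (ModuleCat.ofHom mulg) (ModuleCat.ofHom q)
    (ModuleCat.hom_ext hex.linearMap_comp_eq_zero)
  have hT : T.ShortExact :=
    { exact := (ShortComplex.ShortExact.moduleCat_exact_iff_function_exact _).2 hex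
      mono_f := (ModuleCat.mono_iff_injective _).2 (show Function.Injective mulg from fun p p' h =>
        (mul_cancel_left_mem_nonZeroDivisors hg).1 h)
      epi_g := (ModuleCat.epi_iff_surjective _).2 (show Function.Surjective q from AdjoinRoot.mk_surjective) }
  exact (DR.isPseudoCoherent'_of_shortExact hT).1
    (DR.isPseudoCoherentModule'_of_finite_free (Polynomial S)) (DR.isPseudoCoherentModule'_of_finite_free (Polynomial S))

theorem mem_nonZeroDivisors_away (f : A) :
    (Polynomial.C f * Polynomial.X - 1) ∈ nonZeroDivisors (Polynomial A) := by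
  by_contra h
  obtain ⟨a, ha, hag⟩ := Polynomial.notMem_nonZeroDivisors_iff.1 h
  exact ha (by simpa using congrArg (fun p => Polynomial.coeff p 0) hag)

/-- A principal localisation is relatively pseudo-coherent. -/
theorem relPC_away (f : A) :
    DerCA.IsRelPseudoCoherentModuleAll A (Localization.Away f) (Localization.Away f) := by
  let e' := (Localization.awayEquivAdjoin f).symm
  let e : MvPolynomial (Fin 1) A ≃ₐ[A] Polynomial A := MvPolynomial.uniqueAlgEquiv A (Fin 1)
  let α : MvPolynomial (Fin 1) A →ₐ[A] Localization.Away f :=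
    (e'.toAlgHom.comp (AdjoinRoot.mkₐ (Polynomial.C f * Polynomial.X - 1))).comp e.toAlgHom
  have hα : Function.Surjective α :=
    (e'.surjective.comp AdjoinRoot.mk_surjective).comp e.surjective
  have h0 := ringPC_comp (ringPC_equiv e.toRingEquiv)
    (ringPC_comp (ringPC_adjoinRootMk_of_regular (mem_nonZeroDivisors_away f)) (ringPC_equiv e'.toRingEquiv))
  have hcomp : (α : MvPolynomial (Fin 1) A →+* Localization.Away f) =
      (((e'.toRingEquiv : _ →+* Localization.Away f)).comp
        (AdjoinRoot.mk (Polynomial.C f * Polynomial.X - 1))).comp (e.toRingEquiv : _ →+* Polynomial A) :=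
    RingHom.ext fun _ => rfl
  have h : GrothLib.DR.RingPseudoCoherent (α : MvPolynomial (Fin 1) A →+* Localization.Away f) := by
    rw [hcomp]
    exact h0
  exact (relAll_iff α hα _).2 (DR.isPseudoCoherent'_of_iso (restrictInDIso _ _).symm h)

end Away

end GrothLib.RelPC
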