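import Groth.Agent.Lib.RelPC.Transport
import Groth.Agent.S7000
import Mathlib.RingTheory.TensorProduct.MvPolynomial
import Mathlib.RingTheory.Flat.Basic

/-!
# Polynomial extensions of pseudo-coherent maps
-/

set_option autoImplicit false
universe u

open CategoryTheory CategoryTheory.Limits
open scoped TensorProduct

attribute [local instance] HasDerivedCategory.standard

namespace GrothLib.RelPC

open GrothLib.DR (RingPseudoCoherent)

variable {P A : Type u} [CommRing P] [CommRing A]

/-- Adjoining variables to source and target preserves pseudo-coherence. -/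
theorem ringPC_map {φ : P →+* A} (hφ : RingPseudoCoherent φ) (σ : Type) :
    RingPseudoCoherent (MvPolynomial.map (σ := σ) φ) := by
  algebraize [φ]
  have hA : DRing.IsPseudoCoherentModule' P A :=
    DR.isPseudoCoherentModule'_of_equiv
      (M := (ModuleCat.restrictScalars.{u} φ).obj (ModuleCat.of A A)) (N := A)
      { toFun := fun x => x
        map_add' := fun _ _ => rfl
        map_smul' := fun _ _ => rfl
        invFun := fun x => x
        left_inv := fun _ => rfl
        right_inv := fun _ => rfl } hφ
  have h : DRing.IsPseudoCoherentModule' (MvPolynomial σ P) (MvPolynomial σ P ⊗[P] A) :=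
    (Groth.Agent.S7000.result 0 A).2 hA
  let e : MvPolynomial σ P ⊗[P] A ≃+ MvPolynomial σ A :=
    (TensorProduct.comm P (MvPolynomial σ P) A).toAddEquiv.trans
      (MvPolynomial.algebraTensorAlgEquiv P A).toAddEquiv
  have he : ∀ (q : MvPolynomial σ P) (x : MvPolynomial σ P ⊗[P] A),
      e (q • x) = MvPolynomial.map φ q * e x := by
    intro q x
    induction x using TensorProduct.induction_on with
    | zero => simp
    | tmul q' a =>
      change MvPolynomial.algebraTensorAlgEquiv P A (a ⊗ₜ[P] (q * q')) =
        MvPolynomial.map φ q * MvPolynomial.algebraTensorAlgEquiv P A (a ⊗ₜ[P] q')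
      rw [MvPolynomial.algebraTensorAlgEquiv_tmul, MvPolynomial.algebraTensorAlgEquiv_tmul, map_mul,
        mul_smul_comm]
      rfl
    | add x y hx hy => rw [smul_add, map_add, map_add, hx, hy, mul_add]
  exact DR.isPseudoCoherentModule'_of_equiv
    (N := (ModuleCat.restrictScalars.{u} (MvPolynomial.map (σ := σ) φ)).obj
      (ModuleCat.of (MvPolynomial σ A) (MvPolynomial σ A)))
    { e with map_smul' := he } h

variable {R : Type u} [CommRing R] [Algebra R A]

/-- A ring pseudo-coherent relative to `R` gives a pseudo-coherent presentation. -/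
theorem ringPC_of_relPC_self (hA : DerCA.IsRelPseudoCoherentModuleAll R A A) {n : ℕ}
    (α : MvPolynomial (Fin n) R →ₐ[R] A) (hα : Function.Surjective α) :
    RingPseudoCoherent (α : MvPolynomial (Fin n) R →+* A) :=
  DR.isPseudoCoherent'_of_iso (restrictInDIso _ A) ((relAll_iff α hα _).1 hA)

/-- Polynomial presentations over a polynomial presentation. -/
theorem exists_pres_comp {B : Type u} [CommRing B] [Algebra A B] [Algebra R B] [IsScalarTower R A B]
    {n k : ℕ} (α : MvPolynomial (Fin n) R →ₐ[R] A) (hα : Function.Surjective α)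
    (β : MvPolynomial (Fin k) A →ₐ[A] B) (hβ : Function.Surjective β) :
    ∃ (γ : MvPolynomial (Fin (k + n)) R →ₐ[R] B)
      (e : MvPolynomial (Fin (k + n)) R ≃+* MvPolynomial (Fin k) (MvPolynomial (Fin n) R)),
      Function.Surjective γ ∧ (γ : MvPolynomial (Fin (k + n)) R →+* B) =
        ((β : MvPolynomial (Fin k) A →+* B).comp
          (MvPolynomial.map (α : MvPolynomial (Fin n) R →+* A))).comp (e : _ →+* _) := by
  let e : MvPolynomial (Fin (k + n)) R ≃ₐ[R] MvPolynomial (Fin k) (MvPolynomial (Fin n) R) :=
    (MvPolynomial.renameEquiv R finSumFinEquiv.symm).trans (MvPolynomial.sumAlgEquiv R (Fin k) (Fin n))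
  let γ : MvPolynomial (Fin (k + n)) R →ₐ[R] B :=
    (β.restrictScalars R).comp ((MvPolynomial.mapAlgHom α).comp e.toAlgHom)
  refine ⟨γ, e.toRingEquiv, hβ.comp ((MvPolynomial.map_surjective _ hα).comp e.surjective), ?_⟩
  exact RingHom.ext fun _ => rfl

end GrothLib.RelPC
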