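import Groth.Prelude.Def_DerCA
import Groth.Agent.Lib.DCxRing.Restrict
import Groth.Agent.Lib.DCxRing.LBaseComp
import Mathlib.Algebra.MvPolynomial.Equiv
import Mathlib.RingTheory.AdjoinRoot
import Mathlib.RingTheory.FiniteType

/-!
# Pseudo-coherence relative to a base ring

Independence of the presentation and invariance under finite maps.
-/

set_option autoImplicit false
universe u

open CategoryTheory CategoryTheory.Limits

attribute [local instance] HasDerivedCategory.standard

namespace GrothLib.RelPC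

open GrothLib.DR (RingPseudoCoherent)

variable {A B C : Type u} [CommRing A] [CommRing B] [CommRing C]

theorem pc_congr {K L : Dual.D A} (e : K ≅ L) (m : ℤ) :
    DRing.IsPseudoCoherent A m K ↔ DRing.IsPseudoCoherent A m L :=
  ⟨DerBC.isPseudoCoherent_of_iso e, DerBC.isPseudoCoherent_of_iso e.symm⟩

/-- Isomorphisms are pseudo-coherent. -/
theorem ringPC_equiv (e : A ≃+* B) : RingPseudoCoherent (e : A →+* B) :=
  DR.isPseudoCoherentModule'_of_equiv (M := A)
    (N := (ModuleCat.restrictScalars.{u} (e : A →+* B)).obj (ModuleCat.of B B))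
    { toFun := fun a => e a
      map_add' := fun a b => map_add e a b
      map_smul' := fun r a => map_mul e r a
      invFun := fun b => e.symm b
      left_inv := e.symm_apply_apply
      right_inv := e.apply_symm_apply } (DR.isPseudoCoherentModule'_of_finite_free A)

/-- The composite of pseudo-coherent maps is pseudo-coherent. -/
theorem ringPC_comp {φ : A →+* B} {ψ : B →+* C} (hφ : RingPseudoCoherent φ)
    (hψ : RingPseudoCoherent ψ) : RingPseudoCoherent (ψ.comp φ) := by
  have h := (DR.isPseudoCoherent'_restrictD_iff hφ _).1 hψ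
  refine DR.isPseudoCoherent'_of_iso ?_ h
  exact ((ModuleCat.restrictScalars.{u} φ).mapDerivedCategorySingleFunctor 0).app
      ((ModuleCat.restrictScalars.{u} ψ).obj (ModuleCat.of C C)) ≪≫
    (DerivedCategory.singleFunctor (ModuleCat.{u} A) 0).mapIso
      ((ModuleCat.restrictScalarsComp'App φ ψ (ψ.comp φ) rfl (ModuleCat.of C C)).symm)

/-- Pseudo-coherence along a composite whose first map is pseudo-coherent. -/
theorem pc_restrict_comp {φ : A →+* B} (hφ : RingPseudoCoherent φ) {ψ : B →+* C} {χ : A →+* C}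
    (h : χ = ψ.comp φ) (K : Dual.D C) (m : ℤ) :
    DRing.IsPseudoCoherent A m ((DRing.restrictD χ).obj K) ↔
      DRing.IsPseudoCoherent B m ((DRing.restrictD ψ).obj K) :=
  (pc_congr ((DR.restrictDComp φ ψ χ h).app K).symm m).trans
    (DR.isPseudoCoherent_restrictD_iff hφ _ m).symm

section Monic

variable {S : Type u} [CommRing S] {g : Polynomial S}

theorem ringPC_adjoinRootMk (hg : g.Monic) : RingPseudoCoherent (AdjoinRoot.mk g) := by
  let F := (ModuleCat.restrictScalars.{u} (AdjoinRoot.mk g)).obj (ModuleCat.of (AdjoinRoot g) (AdjoinRoot g))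
  let mulg : Polynomial S →ₗ[Polynomial S] Polynomial S := LinearMap.mulLeft (Polynomial S) g
  let q : Polynomial S →ₗ[Polynomial S] F :=
    { toFun := fun p => (AdjoinRoot.mk g p : AdjoinRoot g)
      map_add' := fun a b => map_add (AdjoinRoot.mk g) a b
      map_smul' := fun a b => map_mul (AdjoinRoot.mk g) a b }
  have hex : Function.Exact mulg q := fun p =>
    ⟨fun h => by
      obtain ⟨c, rfl⟩ := AdjoinRoot.mk_eq_zero.1 h
      exact ⟨c, rfl⟩,
    by
      rintro ⟨c, rfl⟩
      exact AdjoinRoot.mk_eq_zero.2 (dvd_mul_right g c)⟩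
  let T := ShortComplex.mk (ModuleCat.ofHom mulg) (ModuleCat.ofHom q)
    (ModuleCat.hom_ext hex.linearMap_comp_eq_zero)
  have hT : T.ShortExact :=
    { exact := (ShortComplex.ShortExact.moduleCat_exact_iff_function_exact _).2 hex
      mono_f := (ModuleCat.mono_iff_injective _).2 (show Function.Injective mulg from fun p p' h =>
        hg.isRegular.left h)
      epi_g := (ModuleCat.epi_iff_surjective _).2 (show Function.Surjective q from AdjoinRoot.mk_surjective) }
  exact (DR.isPseudoCoherent'_of_shortExact hT).1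
    (DR.isPseudoCoherentModule'_of_finite_free (Polynomial S))
    (DR.isPseudoCoherentModule'_of_finite_free (Polynomial S))

theorem ringPC_adjoinRootOf (hg : g.Monic) : RingPseudoCoherent (AdjoinRoot.of g) := by
  have := hg.finite_adjoinRoot
  have := hg.free_adjoinRoot
  rw [← AdjoinRoot.algebraMap_eq g]
  exact DR.ringPseudoCoherent_algebraMap (DR.isPseudoCoherentModule'_of_finite_free (AdjoinRoot g))

/-- Adjoining an integral element does not change pseudo-coherence. -/
theorem pc_eval₂ (σ : S →+* C) {b : C} (hb : σ.IsIntegralElem b) (K : Dual.D C) (m : ℤ) :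
    DRing.IsPseudoCoherent S m ((DRing.restrictD σ).obj K) ↔
      DRing.IsPseudoCoherent (Polynomial S) m ((DRing.restrictD (Polynomial.eval₂RingHom σ b)).obj K) := by
  obtain ⟨g, hg, hgb⟩ := hb
  exact (pc_restrict_comp (ringPC_adjoinRootOf hg) (ψ := AdjoinRoot.lift σ b hgb)
      (RingHom.ext fun s => (AdjoinRoot.lift_of hgb).symm) K m).trans
    (pc_restrict_comp (ringPC_adjoinRootMk hg) (ψ := AdjoinRoot.lift σ b hgb)
      (RingHom.ext fun p => (AdjoinRoot.lift_mk hgb p).symm) K m).symm

end Monic

/-- Adjoining finitely many integral elements does not change pseudo-coherence. -/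
theorem pc_eval₂Hom : ∀ (k : ℕ) {P : Type u} [CommRing P] (σ : P →+* C) (b : Fin k → C),
    (∀ j, σ.IsIntegralElem (b j)) → ∀ (K : Dual.D C) (m : ℤ),
      DRing.IsPseudoCoherent P m ((DRing.restrictD σ).obj K) ↔
        DRing.IsPseudoCoherent (MvPolynomial (Fin k) P) m
          ((DRing.restrictD (MvPolynomial.eval₂Hom σ b)).obj K) := by
  intro k
  induction k with
  | zero =>
    intro P _ σ b _ K m
    refine pc_restrict_comp (ringPC_equiv (MvPolynomial.isEmptyRingEquiv P (Fin 0)).symm)
      (RingHom.ext fun p => ?_) K m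
    exact (MvPolynomial.eval₂Hom_C σ b p).symm
  | succ k ih =>
    intro P _ σ b hb K m
    let τ := MvPolynomial.eval₂Hom σ fun j : Fin k => b j.succ
    have hτ : τ.IsIntegralElem (b 0) := by
      obtain ⟨g, hg, hgb⟩ := hb 0
      refine ⟨g.map MvPolynomial.C, hg.map _, ?_⟩
      rw [Polynomial.eval₂_map, show τ.comp MvPolynomial.C = σ from
        RingHom.ext fun p => MvPolynomial.eval₂Hom_C σ _ p]
      exact hgb
    refine (ih σ _ (fun j => hb j.succ) K m).trans ((pc_eval₂ τ hτ K m).trans
      (pc_restrict_comp (ringPC_equiv (MvPolynomial.finSuccEquiv P k).toRingEquiv) ?_ K m).symm)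
    refine MvPolynomial.ringHom_ext (fun p => ?_) fun j => ?_
    · simp [τ, MvPolynomial.finSuccEquiv_apply]
    · refine Fin.cases ?_ (fun i => ?_) j
      · simp [τ, MvPolynomial.finSuccEquiv_X_zero]
      · simp [τ, MvPolynomial.finSuccEquiv_X_succ]

theorem isIntegralElem_of_surjective {σ : A →+* B} (hσ : Function.Surjective σ) (b : B) :
    σ.IsIntegralElem b := by
  obtain ⟨a, rfl⟩ := hσ b
  exact σ.isIntegralElem_map

section Relative

variable {R : Type u} [CommRing R] [Algebra R A] [Algebra R B]

/-- Adjoining integral elements to a presentation. -/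
theorem pc_aeval_sum {n k : ℕ} (α : MvPolynomial (Fin n) R →ₐ[R] B) (b : Fin k → B)
    (hb : ∀ j, (α : MvPolynomial (Fin n) R →+* B).IsIntegralElem (b j)) (K : Dual.D B) (m : ℤ) :
    DerCA.IsRelPseudoCoherentVia α m K ↔
      DRing.IsPseudoCoherent (MvPolynomial (Fin k ⊕ Fin n) R) m
        ((DRing.restrictD (MvPolynomial.aeval (R := R)
          (Sum.elim b fun i => α (MvPolynomial.X i))).toRingHom).obj K) := by
  refine (pc_eval₂Hom k _ b hb K m).trans
    (pc_restrict_comp (ringPC_equiv (MvPolynomial.sumAlgEquiv R (Fin k) (Fin n)).toRingEquiv) ?_ K m).symm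
  refine MvPolynomial.ringHom_ext (fun p => ?_) fun j => ?_
  · simp
  · rcases j with j | j <;> simp

/-- Relative pseudo-coherence does not depend on the presentation. -/
theorem via_iff {n k : ℕ} (α : MvPolynomial (Fin n) R →ₐ[R] A) (hα : Function.Surjective α)
    (β : MvPolynomial (Fin k) R →ₐ[R] A) (hβ : Function.Surjective β) (K : Dual.D A) (m : ℤ) :
    DerCA.IsRelPseudoCoherentVia α m K ↔ DerCA.IsRelPseudoCoherentVia β m K := by
  refine (pc_aeval_sum α (fun j => β (MvPolynomial.X j))
    (fun j => isIntegralElem_of_surjective hα _) K m).trans (Iff.trans ?_ (pc_aeval_sum β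
      (fun i => α (MvPolynomial.X i)) (fun i => isIntegralElem_of_surjective hβ _) K m).symm)
  refine pc_restrict_comp (ringPC_equiv
    (MvPolynomial.renameEquiv R (Equiv.sumComm (Fin k) (Fin n))).toRingEquiv) ?_ K m
  refine MvPolynomial.ringHom_ext (fun p => ?_) fun j => ?_
  · simp
  · rcases j with j | j <;> simp

/-- Relative pseudo-coherence can be tested on any presentation. -/
theorem rel_iff {n : ℕ} (α : MvPolynomial (Fin n) R →ₐ[R] A) (hα : Function.Surjective α)
    (K : Dual.D A) (m : ℤ) :
    DerCA.IsRelPseudoCoherent R A m K ↔ DerCA.IsRelPseudoCoherentVia α m K :=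
  ⟨fun ⟨_, β, hβ, h⟩ => (via_iff α hα β hβ K m).2 h, fun h => ⟨n, α, hα, h⟩⟩

theorem relAll_iff {n : ℕ} (α : MvPolynomial (Fin n) R →ₐ[R] A) (hα : Function.Surjective α)
    (K : Dual.D A) :
    DerCA.IsRelPseudoCoherentAll R A K ↔ DRing.IsPseudoCoherent' (MvPolynomial (Fin n) R)
      ((DRing.restrictD (α : MvPolynomial (Fin n) R →+* A)).obj K) :=
  (forall_congr' fun m => rel_iff α hα K m).trans DR.isPseudoCoherent'_iff.symm

variable (R A) in
theorem exists_pres [Algebra.FiniteType R A] :
    ∃ (n : ℕ) (α : MvPolynomial (Fin n) R →ₐ[R] A), Function.Surjective α :=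
  Algebra.FiniteType.iff_quotient_mvPolynomial''.1 inferInstance

variable [Algebra A B] [IsScalarTower R A B]

omit [IsScalarTower R A B] in
theorem isIntegralElem_comp [Module.Finite A B] {P : Type u} [CommRing P] {α : P →+* A}
    (hα : Function.Surjective α) (x : B) : ((algebraMap A B).comp α).IsIntegralElem x := by
  obtain ⟨g, hg, hgb⟩ := Algebra.IsIntegral.isIntegral (R := A) x
  obtain ⟨g', hg', -, hg'm⟩ := Polynomial.lifts_and_natDegree_eq_and_monic
    (Polynomial.mem_lifts_of_surjective (f := α) hα g) hg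
  refine ⟨g', hg'm, ?_⟩
  rw [← Polynomial.eval₂_map, hg']
  exact hgb

theorem aeval_sum_surjective {n k : ℕ} (α : MvPolynomial (Fin n) R →ₐ[R] A) (hα : Function.Surjective α)
    (b : Fin k → B) (hb : Submodule.span A (Set.range b) = ⊤) :
    Function.Surjective (MvPolynomial.aeval (R := R)
      (Sum.elim b fun i => algebraMap A B (α (MvPolynomial.X i)))) := by
  have hc : ∀ a : A, ∃ p : MvPolynomial (Fin k ⊕ Fin n) R, MvPolynomial.aeval (R := R)
      (Sum.elim b fun i => algebraMap A B (α (MvPolynomial.X i))) p = algebraMap A B a := fun a => by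
    obtain ⟨p, rfl⟩ := hα a
    refine ⟨MvPolynomial.rename Sum.inr p, ?_⟩
    rw [MvPolynomial.aeval_rename]
    exact DFunLike.congr_fun (MvPolynomial.algHom_ext (g := (IsScalarTower.toAlgHom R A B).comp α)
      fun i => by simp) p
  choose p hp using hc
  intro y
  have hy : y ∈ Submodule.span A (Set.range b) := hb ▸ Submodule.mem_top
  obtain ⟨c, rfl⟩ := (Submodule.mem_span_range_iff_exists_fun A).1 hy
  exact ⟨∑ j, p (c j) * MvPolynomial.X (Sum.inl j), by simp [hp, Algebra.smul_def]⟩

/-- Finite maps preserve and reflect relative pseudo-coherence. -/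
theorem rel_restrict_iff_of_finite [Algebra.FiniteType R A]
    [Module.Finite A B] (K : Dual.D B) (m : ℤ) :
    DerCA.IsRelPseudoCoherent R B m K ↔
      DerCA.IsRelPseudoCoherent R A m ((DRing.restrictD (algebraMap A B)).obj K) := by
  obtain ⟨n, α, hα⟩ := exists_pres (R := R) (A := A)
  obtain ⟨k, b, hb⟩ := Module.Finite.exists_fin (R := A) (M := B)
  let α' : MvPolynomial (Fin n) R →ₐ[R] B := (IsScalarTower.toAlgHom R A B).comp α
  let e : MvPolynomial (Fin (k + n)) R ≃ₐ[R] MvPolynomial (Fin k ⊕ Fin n) R :=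
    MvPolynomial.renameEquiv R finSumFinEquiv.symm
  let θ : MvPolynomial (Fin k ⊕ Fin n) R →ₐ[R] B :=
    MvPolynomial.aeval (Sum.elim b fun i => α' (MvPolynomial.X i))
  let γ : MvPolynomial (Fin (k + n)) R →ₐ[R] B := θ.comp e.toAlgHom
  have hγ : Function.Surjective γ := (aeval_sum_surjective α hα b hb).comp e.surjective
  have hcomp : (γ : MvPolynomial (Fin (k + n)) R →+* B) =
      θ.toRingHom.comp (e.toRingEquiv : MvPolynomial (Fin (k + n)) R →+* MvPolynomial (Fin k ⊕ Fin n) R) :=
    RingHom.ext fun _ => rfl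
  have h0 := pc_restrict_comp (ringPC_equiv e.toRingEquiv) hcomp K m
  have h01 := pc_aeval_sum α' b (fun j => isIntegralElem_comp (A := A) (α := (α : MvPolynomial (Fin n) R →+* A)) hα (b j)) K m
  have h1 : DerCA.IsRelPseudoCoherentVia γ m K ↔ DerCA.IsRelPseudoCoherentVia α' m K :=
    h0.trans h01.symm
  have h2 : DerCA.IsRelPseudoCoherentVia α' m K ↔
      DerCA.IsRelPseudoCoherentVia α m ((DRing.restrictD (algebraMap A B)).obj K) :=
    pc_congr ((DR.restrictDComp (α : MvPolynomial (Fin n) R →+* A) (algebraMap A B)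
      (α' : MvPolynomial (Fin n) R →+* B) rfl).app K).symm m
  exact (rel_iff γ hγ K m).trans (h1.trans (h2.trans (rel_iff α hα _ m).symm))

end Relative

end GrothLib.RelPC
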